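import Mathlib
import Groth.Prelude.Def_RelSpec

/-! Chart lemmas for relative spectra of quasi-coherent algebras. -/

set_option autoImplicit false

namespace Groth.Agent.RelSpecLib

open CategoryTheory CategoryTheory.Limits AlgebraicGeometry TopologicalSpace Opposite

universe u

variable {S : Scheme.{u}} (A : RelSpec.QCAlg S)

theorem exists_chart_eq {U : S.Opens} (hU : IsAffineOpen U) (c : A.spec) (hc : A.π c ∈ U) :
    ∃ q, A.ι U hU q = c := by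
  have h : c ∈ A.π ⁻¹ᵁ U := hc
  rw [A.π_preimage U hU] at h
  exact h

theorem π_ι_mem (U : S.Opens) (hU : IsAffineOpen U) (q : Spec (A.presheaf.obj (op U))) :
    A.π (A.ι U hU q) ∈ U := by
  show A.ι U hU q ∈ A.π ⁻¹ᵁ U
  rw [A.π_preimage U hU]
  exact ⟨q, rfl⟩

theorem ι_res_basicOpen {U : S.Opens} (hU : IsAffineOpen U) (r : Γ(S, U)) :
    Spec.map (A.presheaf.map (homOfLE (S.basicOpen_le r)).op) ≫ A.ι U hU =
      A.ι (S.basicOpen r) (hU.basicOpen r) :=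
  A.ι_res (U := ⟨U, hU⟩) (V := Scheme.AffineZariskiSite.basicOpen ⟨U, hU⟩ r)
    (homOfLE (Scheme.AffineZariskiSite.basicOpen_le ⟨U, hU⟩ r))

/-- Compatibility of the charts for any inclusion of affine opens. -/
@[reassoc]
theorem ι_res' {U V : S.Opens} (hU : IsAffineOpen U) (hV : IsAffineOpen V) (h : V ≤ U) :
    Spec.map (A.presheaf.map (homOfLE h).op) ≫ A.ι U hU = A.ι V hV := by
  refine Scheme.hom_ext_of_forall _ _ fun x ↦ ?_
  obtain ⟨s, r, hsr, hx⟩ := exists_basicOpen_le_affine_inter hV hU (A.π (A.ι V hV x))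
    ⟨π_ι_mem A V hV x, h (π_ι_mem A V hV x)⟩
  let g : Spec (A.presheaf.obj (op (S.basicOpen s))) ⟶ Spec (A.presheaf.obj (op V)) :=
    Spec.map (A.presheaf.map (homOfLE (S.basicOpen_le s)).op)
  have hg : g ≫ A.ι V hV = A.ι _ (hV.basicOpen s) := ι_res_basicOpen A hV s
  have : IsOpenImmersion (g ≫ A.ι V hV) := hg ▸ inferInstance
  have : IsOpenImmersion g := IsOpenImmersion.of_comp g (A.ι V hV)
  obtain ⟨w, hw⟩ := exists_chart_eq A (hV.basicOpen s) (A.ι V hV x) hx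
  refine ⟨g.opensRange, ⟨w, (A.ι V hV).isOpenEmbedding.injective ?_⟩, ?_⟩
  · rw [← Scheme.Hom.comp_apply, hg, hw]
  rw [← cancel_epi g.isoOpensRange.hom, Scheme.Hom.isoOpensRange_hom_ι_assoc,
    Scheme.Hom.isoOpensRange_hom_ι_assoc, hg, ← Spec.map_comp_assoc, ← Functor.map_comp]
  have key : ∀ (W : S.Opens) (hW : IsAffineOpen W) (hle : W ≤ U) (e : S.basicOpen r = W),
      Spec.map (A.presheaf.map (homOfLE hle).op) ≫ A.ι U hU = A.ι W hW := by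
    rintro W hW hle rfl
    exact ι_res_basicOpen A hU r
  exact key _ (hV.basicOpen s) ((S.basicOpen_le s).trans h) hsr.symm

section glue

variable {Z : Scheme.{u}} {J : Type u} (W : J → S.Opens) (hW : ∀ j, IsAffineOpen (W j))

theorem iSup_chart_range (hcov : ∀ s : S, ∃ j, s ∈ W j) :
    ⨆ j, (A.ι (W j) (hW j)).opensRange = ⊤ := by
  rw [eq_top_iff]
  intro c _
  obtain ⟨j, hj⟩ := hcov (A.π c)
  exact Opens.mem_iSup.mpr ⟨j, exists_chart_eq A (hW j) c hj⟩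

theorem hom_ext_charts (hcov : ∀ s : S, ∃ j, s ∈ W j) {f g : A.spec ⟶ Z}
    (h : ∀ j, A.ι (W j) (hW j) ≫ f = A.ι (W j) (hW j) ≫ g) : f = g := by
  refine Scheme.hom_ext_of_forall f g fun c ↦ ?_
  obtain ⟨j, hj⟩ := hcov (A.π c)
  refine ⟨(A.ι (W j) (hW j)).opensRange, exists_chart_eq A (hW j) c hj, ?_⟩
  rw [← cancel_epi (A.ι (W j) (hW j)).isoOpensRange.hom, ← Category.assoc, ← Category.assoc,
    Scheme.Hom.isoOpensRange_hom_ι, h j]

variable (hcov : ∀ s : S, ∃ j, s ∈ W j) (F : ∀ j, Spec (A.presheaf.obj (op (W j))) ⟶ Z)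
  (hF : ∀ j k (s : S), s ∈ W j → s ∈ W k → ∃ (V : S.Opens) (_ : IsAffineOpen V) (_ : s ∈ V)
    (hj : V ≤ W j) (hk : V ≤ W k),
    Spec.map (A.presheaf.map (homOfLE hj).op) ≫ F j = Spec.map (A.presheaf.map (homOfLE hk).op) ≫ F k)

include hF in
theorem glue_compat {T : Scheme.{u}} (j k : J) (a : T ⟶ Spec (A.presheaf.obj (op (W j))))
    (b : T ⟶ Spec (A.presheaf.obj (op (W k))))
    (h : a ≫ A.ι (W j) (hW j) = b ≫ A.ι (W k) (hW k)) : a ≫ F j = b ≫ F k := by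
  refine Scheme.hom_ext_of_forall _ _ fun t ↦ ?_
  have hj : A.π (A.ι (W j) (hW j) (a t)) ∈ W j := π_ι_mem A _ _ _
  have e : A.ι (W j) (hW j) (a t) = A.ι (W k) (hW k) (b t) := by
    rw [← Scheme.Hom.comp_apply, ← Scheme.Hom.comp_apply, h]
  have hk : A.π (A.ι (W j) (hW j) (a t)) ∈ W k := e ▸ π_ι_mem A _ _ _
  obtain ⟨V, hV, htV, hVj, hVk, hFV⟩ := hF j k _ hj hk
  let c : ((a ≫ A.ι (W j) (hW j)) ⁻¹ᵁ (A.ι V hV).opensRange : T.Opens).toScheme ⟶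
      Spec (A.presheaf.obj (op V)) :=
    IsOpenImmersion.lift (A.ι V hV) (Scheme.Opens.ι _ ≫ a ≫ A.ι (W j) (hW j)) (by
      rintro _ ⟨x, rfl⟩
      exact x.2)
  refine ⟨(a ≫ A.ι (W j) (hW j)) ⁻¹ᵁ (A.ι V hV).opensRange,
    exists_chart_eq A hV _ htV, ?_⟩
  have hc : c ≫ A.ι V hV = Scheme.Opens.ι _ ≫ a ≫ A.ι (W j) (hW j) := IsOpenImmersion.lift_fac _ _ _
  have ha : Scheme.Opens.ι _ ≫ a = c ≫ Spec.map (A.presheaf.map (homOfLE hVj).op) := by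
    rw [← cancel_mono (A.ι (W j) (hW j)), Category.assoc, Category.assoc, ι_res' A (hW j) hV hVj, hc]
  have hb : Scheme.Opens.ι _ ≫ b = c ≫ Spec.map (A.presheaf.map (homOfLE hVk).op) := by
    rw [← cancel_mono (A.ι (W k) (hW k)), Category.assoc, Category.assoc, ι_res' A (hW k) hV hVk, hc,
      h]
  rw [reassoc_of% ha, hFV, reassoc_of% hb]

include hcov hF in
theorem existsUnique_glue :
    ∃! f : A.spec ⟶ Z, ∀ j, A.ι (W j) (hW j) ≫ f = F j := by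
  let 𝒰 : A.spec.OpenCover := A.spec.openCoverOfIsOpenCover
    (fun j ↦ (A.ι (W j) (hW j)).opensRange) (iSup_chart_range A W hW hcov)
  let G : ∀ j, 𝒰.X j ⟶ Z := fun j ↦ (A.ι (W j) (hW j)).isoOpensRange.inv ≫ F j
  refine ⟨𝒰.glueMorphisms G fun j k ↦ ?_, fun j ↦ ?_, fun f hf ↦ ?_⟩
  · simp only [G, ← Category.assoc]
    refine glue_compat A W hW F hF j k _ _ ?_
    have hinv : ∀ l : J, (A.ι (W l) (hW l)).isoOpensRange.inv ≫ A.ι (W l) (hW l) = 𝒰.f l := fun l ↦ by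
      rw [Iso.inv_comp_eq]
      exact (Scheme.Hom.isoOpensRange_hom_ι _).symm
    simp only [Category.assoc]
    exact (congrArg (pullback.fst (𝒰.f j) (𝒰.f k) ≫ ·) (hinv j)).trans
      ((pullback.condition (f := 𝒰.f j) (g := 𝒰.f k)).trans
        (congrArg (pullback.snd (𝒰.f j) (𝒰.f k) ≫ ·) (hinv k)).symm)
  · rw [← Scheme.Hom.isoOpensRange_hom_ι (A.ι (W j) (hW j)), Category.assoc]
    erw [Scheme.Cover.ι_glueMorphisms 𝒰 G]
    exact (A.ι (W j) (hW j)).isoOpensRange.hom_inv_id_assoc (F j)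
  · refine Scheme.Cover.hom_ext 𝒰 _ _ fun j ↦ ?_
    rw [Scheme.Cover.ι_glueMorphisms 𝒰 G]
    simp only [G]
    rw [← hf j, ← Category.assoc]
    erw [Scheme.Hom.isoOpensRange_inv_comp]
    rfl

end glue

/-- The affine opens of `S`, as an index type for `existsUnique_glue`. -/
theorem affineOpens_cover (s : S) : ∃ U : S.affineOpens, s ∈ U.1 := by
  obtain ⟨U, hU, hs, -⟩ := exists_isAffineOpen_mem_and_subset (X := S) (x := s) (U := ⊤) trivial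
  exact ⟨⟨U, hU⟩, hs⟩

section qMap

variable {S' : Scheme.{u}} (q : S' ⟶ S) (B : RelSpec.QCAlg S) (B' : RelSpec.QCAlg S')
  (u : B.presheaf ⟶ q.base _* B'.presheaf)

/-- Pairs of affine opens adapted to `q`. -/
abbrev Pairs : Type u := {p : S.affineOpens × S'.affineOpens // p.2.1 ≤ q ⁻¹ᵁ p.1.1}

theorem pairs_cover (s : S') : ∃ p : Pairs q, s ∈ p.1.2.1 := by
  obtain ⟨U, hU⟩ := affineOpens_cover (q s)
  obtain ⟨U', hU', hs, hle⟩ := exists_isAffineOpen_mem_and_subset (X := S') (x := s)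
    (U := q ⁻¹ᵁ U.1) hU
  exact ⟨⟨(U, ⟨U', hU'⟩), hle⟩, hs⟩

/-- The component of a `q`-morphism on a pair of opens. -/
def qComp (U : S.Opens) (U' : S'.Opens) (hle : U' ≤ q ⁻¹ᵁ U) :
    B.presheaf.obj (op U) ⟶ B'.presheaf.obj (op U') :=
  (u.app (op U) : B.presheaf.obj (op U) ⟶ B'.presheaf.obj (op (q ⁻¹ᵁ U))) ≫
    B'.presheaf.map (homOfLE hle).op

theorem qComp_res {U V : S.Opens} {U' V' : S'.Opens} (h : U' ≤ q ⁻¹ᵁ U) (h' : V' ≤ q ⁻¹ᵁ V)
    (i : V ≤ U) (i' : V' ≤ U') :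
    qComp q B B' u U U' h ≫ B'.presheaf.map (homOfLE i').op =
      B.presheaf.map (homOfLE i).op ≫ qComp q B B' u V V' h' := by
  have hn : B.presheaf.map (homOfLE i).op ≫ u.app (op V) =
      u.app (op U) ≫ B'.presheaf.map (homOfLE (q.preimage_mono i)).op := u.naturality (homOfLE i).op
  simp only [qComp]
  rw [reassoc_of% hn, Category.assoc, ← Functor.map_comp, ← Functor.map_comp]
  rfl

theorem existsUnique_qMap :
    ∃! v : B'.spec ⟶ B.spec,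
      ∀ (U : S.Opens) (hU : IsAffineOpen U) (U' : S'.Opens) (hU' : IsAffineOpen U')
        (hle : U' ≤ q ⁻¹ᵁ U),
        B'.ι U' hU' ≫ v = Spec.map (qComp q B B' u U U' hle) ≫ B.ι U hU := by
  obtain ⟨v, hv, huniq⟩ := existsUnique_glue B' (fun p : Pairs q ↦ p.1.2.1) (fun p ↦ p.1.2.2)
    (pairs_cover q) (fun p ↦ Spec.map (qComp q B B' u p.1.1.1 p.1.2.1 p.2) ≫ B.ι _ p.1.1.2)
    (fun p₁ p₂ s h₁ h₂ ↦ by
      obtain ⟨U₃, hU₃, hs, hle⟩ := exists_isAffineOpen_mem_and_subset (X := S) (x := q s)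
        (U := p₁.1.1.1 ⊓ p₂.1.1.1) ⟨p₁.2 h₁, p₂.2 h₂⟩
      obtain ⟨U₃', hU₃', hs', hle'⟩ := exists_isAffineOpen_mem_and_subset (X := S') (x := s)
        (U := p₁.1.2.1 ⊓ p₂.1.2.1 ⊓ q ⁻¹ᵁ U₃) ⟨⟨h₁, h₂⟩, hs⟩
      have i₁ : U₃' ≤ p₁.1.2.1 := fun x hx ↦ (hle' hx).1.1
      have i₂ : U₃' ≤ p₂.1.2.1 := fun x hx ↦ (hle' hx).1.2
      have h₃ : U₃' ≤ q ⁻¹ᵁ U₃ := fun x hx ↦ (hle' hx).2
      have j₁ : U₃ ≤ p₁.1.1.1 := fun x hx ↦ (hle hx).1
      have j₂ : U₃ ≤ p₂.1.1.1 := fun x hx ↦ (hle hx).2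
      refine ⟨U₃', hU₃', hs', i₁, i₂, ?_⟩
      rw [← Spec.map_comp_assoc, ← Spec.map_comp_assoc, qComp_res q B B' u p₁.2 h₃ j₁ i₁,
        qComp_res q B B' u p₂.2 h₃ j₂ i₂, Spec.map_comp_assoc, Spec.map_comp_assoc,
        ι_res' B p₁.1.1.2 hU₃ j₁, ι_res' B p₂.1.1.2 hU₃ j₂])
  exact ⟨v, fun U hU U' hU' hle ↦ hv ⟨(⟨U, hU⟩, ⟨U', hU'⟩), hle⟩,
    fun f hf ↦ huniq f fun p ↦ hf _ p.1.1.2 _ p.1.2.2 p.2⟩

theorem qMap_π (hu : B.str ≫ u = q.c ≫ (TopCat.Presheaf.pushforward CommRingCat.{u} q.base).map B'.str)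
    (v : B'.spec ⟶ B.spec)
    (hv : ∀ (U : S.Opens) (hU : IsAffineOpen U) (U' : S'.Opens) (hU' : IsAffineOpen U')
        (hle : U' ≤ q ⁻¹ᵁ U),
        B'.ι U' hU' ≫ v = Spec.map (qComp q B B' u U U' hle) ≫ B.ι U hU) :
    v ≫ B.π = B'.π ≫ q := by
  refine hom_ext_charts B' (fun p : Pairs q ↦ p.1.2.1) (fun p ↦ p.1.2.2) (pairs_cover q) fun p ↦ ?_
  rw [reassoc_of% (hv _ p.1.1.2 _ p.1.2.2 p.2), B.ι_π, reassoc_of% (B'.ι_π _ p.1.2.2),
    ← Spec.map_comp_assoc, ← IsAffineOpen.SpecMap_appLE_fromSpec q p.1.1.2 p.1.2.2 p.2,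
    ← Spec.map_comp_assoc]
  congr 2
  have h : B.str.app (op p.1.1.1) ≫ u.app (op p.1.1.1) =
      q.app p.1.1.1 ≫ B'.str.app (op (q ⁻¹ᵁ p.1.1.1)) := NatTrans.congr_app hu (op p.1.1.1)
  rw [qComp, reassoc_of% h, Scheme.Hom.appLE, Category.assoc]
  congr 1
  exact (B'.str.naturality (homOfLE p.2).op).symm

end qMap

/-- The comparison `π_* O ⟶ A` is an isomorphism. -/
theorem isIso_gammaMap : IsIso A.gammaMap := by
  have h : ∀ (U : S.Opens) (hU : IsAffineOpen U), IsIso (A.gammaMap.app (op U)) := fun U hU ↦ by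
    rw [A.gammaMap_app U hU, RelSpec.QCAlg.gammaAff, Scheme.Hom.appLE]
    have : IsIso ((A.ι U hU).app (A.π ⁻¹ᵁ U)) :=
      (A.ι U hU).isIso_app _ (A.π_preimage U hU).le
    have : IsIso ((Spec (A.presheaf.obj (op U))).presheaf.map
        (homOfLE (A.top_le_preimage U hU)).op) := by
      have e : A.ι U hU ⁻¹ᵁ (A.π ⁻¹ᵁ U) = ⊤ := top_le_iff.mp (A.top_le_preimage U hU)
      rw [show (homOfLE (A.top_le_preimage U hU)).op = (eqToHom e.symm).op from Subsingleton.elim _ _]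
      infer_instance
    infer_instance
  let α : (⟨A.π.base _* A.spec.presheaf,
      TopCat.Sheaf.pushforward_sheaf_of_sheaf _ A.spec.sheaf.property⟩ : TopCat.Sheaf CommRingCat.{u} S.carrier) ⟶
      ⟨A.presheaf, A.isSheaf⟩ := ⟨A.gammaMap⟩
  have : IsIso (Functor.whiskerLeft (Scheme.AffineZariskiSite.toOpensFunctor S).op α.hom) := by
    have : ∀ U, IsIso ((Functor.whiskerLeft (Scheme.AffineZariskiSite.toOpensFunctor S).op α.hom).app U) :=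
      fun U ↦ h U.unop.1 U.unop.2
    exact NatIso.isIso_of_isIso_app _
  have hα : IsIso α := Functor.IsCoverDense.iso_of_restrict_iso
    (G := Scheme.AffineZariskiSite.toOpensFunctor S) α this
  exact (inferInstance : IsIso ((sheafToPresheaf _ _).map α))

end Groth.Agent.RelSpecLib
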